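import Cfsg.Agent.Lib.LocalEven.OnePointFront.Basic
import Cfsg.Agent.Lib.Coprime.Sylow

/-!
# Closed settings from groups attached to the points

`PointGroups K` attaches to each point a subgroup of its stabiliser, equivariantly, with an involution,
and such that each of its involutions fixes only that point.  These involutions form a closed setting
with good point groups, and the structure passes to subgroups with all of them and to faithful images.
-/

set_option autoImplicit false
set_option linter.style.haveILetI false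

namespace CfsgLib.LocalEven.OnePointFront

open MulAction CfsgLib.LocalEven.TIEndgame CfsgLib.Involution

universe u v

variable {G : Type u} {Ω : Type v} [Group G] [MulAction G Ω]

/-- Normal subgroups of the point stabilisers whose involutions are the members at the points. -/
structure GoodGroups (D : Set G) (K : Ω → Subgroup G) : Prop where
  le : ∀ a, K a ≤ stabilizer G a
  conj : ∀ (g : G) (a : Ω), ∀ x ∈ K a, g * x * g⁻¹ ∈ K (g • a)
  invol : ∀ (a : Ω) (x : G), orderOf x = 2 → (x ∈ K a ↔ x ∈ dat D a)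

/-- Every faithful generated closed setting with good point groups has no bad involution. -/
def GoodNoBad : Prop :=
  ∀ (G : Type u) [Group G] [Finite G] (Ω : Type u) [Finite Ω] [MulAction G Ω] [FaithfulSMul G Ω]
    (D : Set G) (K : Ω → Subgroup G), ClosedSetting D Ω → GoodGroups D K →
      Subgroup.closure D = ⊤ → NoBad G Ω

/-- A subgroup at each point whose involutions fix only that point. -/
structure PointGroups (K : Ω → Subgroup G) : Prop where
  le : ∀ a, K a ≤ stabilizer G a
  conj : ∀ (g : G) (a : Ω), ∀ x ∈ K a, g * x * g⁻¹ ∈ K (g • a)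
  unique : ∀ (a b : Ω) (x : G), orderOf x = 2 → x ∈ K a → x • b = b → b = a
  exists_invol : ∀ a, ∃ x ∈ K a, orderOf x = 2

/-- The involutions of the groups at the points. -/
def involsOf (K : Ω → Subgroup G) : Set G := {x | orderOf x = 2 ∧ ∃ a, x ∈ K a}

namespace PointGroups

variable {K : Ω → Subgroup G} (h : PointGroups K)
include h

theorem mem_of_fix {d : G} (hd : d ∈ involsOf K) {a : Ω} (hda : d • a = a) : d ∈ K a := by
  obtain ⟨hd2, c, hdc⟩ := hd
  exact h.unique c a d hd2 hdc hda ▸ hdc

theorem conj_mem_of_fix {g x : G} {a : Ω} (hga : g • a = a) (hx : x ∈ K a) : g * x * g⁻¹ ∈ K a := by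
  have := h.conj g a x hx
  rwa [hga] at this

/-- The group at a point is normal in the stabiliser. -/
theorem normal (a : Ω) : ((K a).subgroupOf (stabilizer G a)).Normal :=
  ⟨fun _ hx g => h.conj_mem_of_fix (mem_stabilizer_iff.1 g.2) hx⟩

theorem closedSetting [Finite G] : ClosedSetting (involsOf K) Ω := by
  haveI : Fact (Nat.Prime 2) := ⟨Nat.prime_two⟩
  refine ClosedSetting.of_points (fun d hd => hd.1) ?_ ?_ ?_ ?_ ?_
  · rintro g d ⟨hd2, a, hda⟩
    exact ⟨(Dihedral.orderOf_conj g d).trans hd2, g • a, h.conj g a d hda⟩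
  · rintro d ⟨-, a, hda⟩
    exact ⟨a, mem_stabilizer_iff.1 (h.le a hda)⟩
  · rintro d ⟨hd2, c, hdc⟩ a b ha hb
    rw [h.unique c a d hd2 hdc ha, h.unique c b d hd2 hdc hb]
  · intro a
    obtain ⟨x, hx, hx2⟩ := h.exists_invol a
    exact ⟨x, ⟨hx2, a, hx⟩, mem_stabilizer_iff.1 (h.le a hx)⟩
  · intro P hP z hz hz2
    refine ⟨hz2, ?_⟩
    obtain hempty | ⟨d, ⟨hd2, a, hda⟩, hdP⟩ := (involsOf K ∩ (P : Set G)).eq_empty_or_nonempty
    · rw [hempty, Subgroup.closure_empty, Subgroup.mem_bot] at hz
      rw [hz, orderOf_one] at hz2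
      exact absurd hz2 (by norm_num)
    -- the 2-group fixes the point of a member in it
    have hPa : P ≤ stabilizer G a := by
      by_contra hne
      have hlt : P ⊓ stabilizer G a < P :=
        lt_of_le_of_ne inf_le_left fun e => hne (e ▸ inf_le_right)
      obtain ⟨x, ⟨hxP, hxn⟩, hxa⟩ :=
        SetLike.exists_of_lt (CfsgLib.Coprime.lt_normalizer_inf_of_lt hP hlt)
      have hd' := (Subgroup.mem_normalizer_iff.1 hxn d).1 ⟨hdP, h.le a hda⟩
      have := h.unique (x • a) a _ ((Dihedral.orderOf_conj x d).trans hd2) (h.conj x a d hda)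
        (mem_stabilizer_iff.1 hd'.2)
      exact hxa ⟨hxP, mem_stabilizer_iff.2 this.symm⟩
    refine ⟨a, (Subgroup.closure_le (K a)).2 ?_ hz⟩
    exact fun e he => h.mem_of_fix he.1 (mem_stabilizer_iff.1 (hPa he.2))

theorem goodGroups : GoodGroups (involsOf K) K where
  le := h.le
  conj := h.conj
  invol a _ hx2 := ⟨fun hx => ⟨⟨hx2, a, hx⟩, mem_stabilizer_iff.1 (h.le a hx)⟩,
    fun hx => h.mem_of_fix hx.1 hx.2⟩

/-- The groups inside a subgroup containing all their involutions. -/
theorem restrict {H : Subgroup G} (hH : involsOf K ⊆ H) :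
    PointGroups (G := ↥H) fun a => (K a).subgroupOf H where
  le a _ hx := mem_stabilizer_iff.2 (mem_stabilizer_iff.1 (h.le a hx) : _)
  conj g a x hx := h.conj (g : G) a x hx
  unique a b x hx2 hx hb := h.unique a b x ((Subgroup.orderOf_coe x).trans hx2) hx hb
  exists_invol a := by
    obtain ⟨x, hx, hx2⟩ := h.exists_invol a
    exact ⟨⟨x, hH ⟨hx2, a, hx⟩⟩, hx, (Subgroup.orderOf_mk _ _).trans hx2⟩

omit [MulAction G Ω] h in
theorem involsOf_restrict {H : Subgroup G} :
    involsOf (fun a => (K a).subgroupOf H) = {d : ↥H | (d : G) ∈ involsOf K} := by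
  ext d
  simp [involsOf, Subgroup.mem_subgroupOf]

/-- An element of a group at a point mapping to an involution can be replaced by an involution. -/
theorem exists_involution_lift [Finite G] [Nontrivial Ω] {L : Type*} [Group L] [MulAction L Ω]
    {f : G →* L} (hf : ∀ (g : G) (c : Ω), f g • c = g • c) {a : Ω} {x : G} (hx : x ∈ K a)
    (hfx : orderOf (f x) = 2) : ∃ y ∈ K a, orderOf y = 2 ∧ f y = f x := by
  obtain ⟨k, m, hm, hN⟩ := Nat.exists_eq_two_pow_mul_odd (orderOf_pos x).ne'
  obtain ⟨i, rfl⟩ := hm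
  have hfy : f (x ^ (2 * i + 1)) = f x := by
    rw [map_pow, pow_succ, pow_mul, ← hfx, pow_orderOf_eq_one, one_pow, one_mul]
  refine ⟨x ^ (2 * i + 1), pow_mem hx _, ?_, hfy⟩
  have hy2 : (x ^ (2 * i + 1)) ^ 2 ^ k = 1 := by
    rw [← pow_mul, mul_comm, ← hN, pow_orderOf_eq_one]
  obtain ⟨j, -, hj⟩ := (Nat.dvd_prime_pow Nat.prime_two).1 (orderOf_dvd_of_pow_eq_one hy2)
  rcases j with _ | _ | j
  · rw [pow_zero, orderOf_eq_one_iff] at hj
    rw [hj, map_one] at hfy
    rw [← hfy, orderOf_one] at hfx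
    exact absurd hfx (by norm_num)
  · simpa using hj
  -- a proper power of it would be an involution fixing all points
  set y := x ^ (2 * i + 1)
  have hz : orderOf (y ^ 2 ^ (j + 1)) = 2 := by
    rw [orderOf_pow' _ (by positivity), hj, Nat.gcd_eq_right (pow_dvd_pow 2 (by omega)),
      pow_succ, Nat.mul_div_cancel_left _ (by positivity)]
  have hfix : f (y ^ 2 ^ (j + 1)) = 1 := by
    rw [map_pow, hfy, pow_succ', pow_mul, ← hfx, pow_orderOf_eq_one, one_pow]
  obtain ⟨c, hc⟩ := exists_ne a
  exact absurd (h.unique a c _ hz (pow_mem (pow_mem hx _) _) (by rw [← hf, hfix, one_smul])) hc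

/-- The images of the groups in an image acting on the same points. -/
theorem map [Finite G] [Nontrivial Ω] {L : Type*} [Group L] [MulAction L Ω] {f : G →* L}
    (hsurj : Function.Surjective f) (hf : ∀ (g : G) (c : Ω), f g • c = g • c) :
    PointGroups (G := L) fun a => (K a).map f where
  le a := by
    rintro _ ⟨x, hx, rfl⟩
    exact mem_stabilizer_iff.2 ((hf x a).trans (mem_stabilizer_iff.1 (h.le a hx)))
  conj l a := by
    rintro _ ⟨x, hx, rfl⟩
    obtain ⟨g, rfl⟩ := hsurj l
    exact ⟨g * x * g⁻¹, by rw [hf]; exact h.conj g a x hx, by simp⟩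
  unique a b := by
    rintro _ hx2 ⟨x, hx, rfl⟩ hb
    obtain ⟨y, hy, hy2, hyx⟩ := h.exists_involution_lift hf hx hx2
    exact h.unique a b y hy2 hy (by rw [← hf, hyx]; exact hb)
  exists_invol a := by
    obtain ⟨x, hx, hx2⟩ := h.exists_invol a
    refine ⟨f x, ⟨x, hx, rfl⟩, orderOf_eq_prime
      (by rw [← map_pow, ← hx2, pow_orderOf_eq_one, map_one]) fun e => ?_⟩
    obtain ⟨c, hc⟩ := exists_ne a
    exact hc (h.unique a c x hx2 hx (by rw [← hf, e, one_smul]))

theorem involsOf_map [Finite G] [Nontrivial Ω] {L : Type*} [Group L] [MulAction L Ω] {f : G →* L}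
    (hf : ∀ (g : G) (c : Ω), f g • c = g • c) :
    involsOf (fun a => (K a).map f) = f '' involsOf K := by
  ext y
  constructor
  · rintro ⟨hy2, a, x, hx, rfl⟩
    obtain ⟨z, hz, hz2, hzx⟩ := h.exists_involution_lift hf hx hy2
    exact ⟨z, ⟨hz2, a, hz⟩, hzx⟩
  · rintro ⟨x, ⟨hx2, a, hx⟩, rfl⟩
    refine ⟨orderOf_eq_prime (by rw [← map_pow, ← hx2, pow_orderOf_eq_one, map_one]) fun e => ?_,
      a, x, hx, rfl⟩
    obtain ⟨c, hc⟩ := exists_ne a
    exact hc (h.unique a c x hx2 hx (by rw [← hf, e, one_smul]))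

end PointGroups

end CfsgLib.LocalEven.OnePointFront
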