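import Cfsg.Agent.Lib.LocalEven.OnePointFront.Kernel
import Cfsg.Agent.Lib.LocalEven.TIEndgame.Main

/-!
# The group generated by the members, when its image has no bad involution

Let `C` be generated by the members and suppose no involution of its image in the permutations of the
points is bad.  Then `C` has no bad involution, and either no two members commute and `C` has a normal
2-complement, or the image has a rank-one set-up at every point and the kernel has odd order.
-/

set_option autoImplicit false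
set_option linter.style.haveILetI false

namespace CfsgLib.LocalEven.OnePointFront

open MulAction CfsgLib.LocalEven.TIEndgame CfsgLib.Involution

universe u

variable {G Ω : Type u} [Group G] [MulAction G Ω] {D : Set G}

/-- The permutations of the points given by the group generated by the members. -/
abbrev genImage (D : Set G) (Ω : Type u) [MulAction G Ω] : Subgroup (Equiv.Perm Ω) :=
  (MulAction.toPermHom ↥(Subgroup.closure D) Ω).range

/-- The map to these permutations. -/
def genMap (D : Set G) (Ω : Type u) [MulAction G Ω] : ↥(Subgroup.closure D) →* ↥(genImage D Ω) :=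
  (MulAction.toPermHom ↥(Subgroup.closure D) Ω).rangeRestrict

theorem genMap_smul (g : ↥(Subgroup.closure D)) (c : Ω) : genMap D Ω g • c = g • c := rfl

theorem genMap_surjective : Function.Surjective (genMap D Ω) :=
  MonoidHom.rangeRestrict_surjective _

instance faithful_genImage : FaithfulSMul ↥(genImage D Ω) Ω :=
  ⟨fun e => Subtype.ext (Equiv.ext e)⟩

instance finite_genImage [Finite G] : Finite ↥(genImage D Ω) :=
  Finite.of_surjective _ genMap_surjective

variable (h : ClosedSetting D Ω)
include h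

theorem closure_members_normal : (Subgroup.closure D).Normal :=
  ⟨fun x hx g => by
    have hle : Subgroup.closure D ≤ (Subgroup.closure D).comap (MulAut.conj g).toMonoidHom :=
      (Subgroup.closure_le _).2 fun d hd => Subgroup.subset_closure (h.conj_mem g d hd)
    exact hle hx⟩

theorem closedSetting_membersIn : ClosedSetting (membersIn D) Ω where
  toOnePoint := h.toOnePoint.restrict
  covers := Covers.restrict h.covers
  closed P hP z hz hz2 := by
    have hle : Subgroup.closure (membersIn D ∩ (P : Set ↥(Subgroup.closure D))) ≤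
        (Subgroup.closure (D ∩ ((P.map (Subgroup.closure D).subtype : Subgroup G) : Set G))).comap
          (Subgroup.closure D).subtype :=
      (Subgroup.closure_le _).2 fun d hd => Subgroup.subset_closure ⟨hd.1, d, hd.2, rfl⟩
    exact h.closed _ (hP.map _) _ (hle hz) ((Subgroup.orderOf_coe z).trans hz2)

theorem closure_genImage : Subgroup.closure (genMap D Ω '' membersIn D) = ⊤ := by
  rw [← MonoidHom.map_closure, closure_membersIn, Subgroup.map_top_of_surjective _ genMap_surjective]

variable [Finite G]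

theorem closedSetting_genImage [Nontrivial Ω] : ClosedSetting (genMap D Ω '' membersIn D) Ω :=
  (closedSetting_membersIn h).map genMap_surjective genMap_smul

theorem pretransitive_genImage [Nontrivial Ω] : IsPretransitive ↥(genImage D Ω) Ω :=
  ⟨(closedSetting_genImage h).exists_move (closedSetting_genImage h).covers⟩

/-- If no two members commute, modulo the odd core there is nothing but one member. -/
theorem mem_oddCore_or {r : G} (hr : r ∈ D) (hiso : ∀ d ∈ D, ∀ e ∈ D, Commute d e → d = e)
    (x : ↥(Subgroup.closure D)) :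
    x ∈ Cfsg.oddCore ↥(Subgroup.closure D) ∨
      x * ⟨r, Subgroup.subset_closure hr⟩ ∈ Cfsg.oddCore ↥(Subgroup.closure D) := by
  set r' : ↥(Subgroup.closure D) := ⟨r, Subgroup.subset_closure hr⟩
  have hr'2 : orderOf r' = 2 := (Subgroup.orderOf_mk _ _).trans (h.orderOf_eq r hr)
  have hiso' : Cfsg.IsIsolatedInvolution r' :=
    ⟨hr'2, fun g hg => Subtype.ext
      ((hiso r hr _ (h.conj_mem (g : G) r hr) (congrArg Subtype.val hg.eq)).symm)⟩
  have hZ := CfsgLib.Involution.ZStar.comm_mem_oddCore hiso'
  haveI : (Cfsg.oddCore ↥(Subgroup.closure D)).Normal := ZStar.oddCore_normal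
  let π := QuotientGroup.mk' (Cfsg.oddCore ↥(Subgroup.closure D))
  have hcentral : ∀ g : ↥(Subgroup.closure D), π r' * π g = π g * π r' := fun g => by
    have h1 : π (r' * g * r'⁻¹ * g⁻¹) = 1 := (QuotientGroup.eq_one_iff _).2 (hZ g)
    rw [map_mul, map_mul, map_mul, map_inv, map_inv, mul_inv_eq_one] at h1
    exact mul_inv_eq_iff_eq_mul.1 h1
  have hconj : ∀ e ∈ D, ∀ heC : e ∈ Subgroup.closure D, π ⟨e, heC⟩ = π r' := by
    intro e he heC
    have hr2 := h.orderOf_eq r hr
    have he2 := h.orderOf_eq e he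
    have hodd : Odd (orderOf (r * e)) := by
      rw [← Nat.not_even_iff_odd]
      intro heven
      have hz2 : orderOf ((r * e) ^ (orderOf (r * e) / 2)) = 2 :=
        orderOf_pow_orderOf_div (orderOf_pos _).ne' heven.two_dvd
      have hmem : r * (r * e) ^ (orderOf (r * e) / 2) ∈ D := by
        rw [← zpow_natCast]; exact h.reflection_mem hr he _
      have := hiso r hr _ hmem
        ((Commute.refl r).mul_right (Dihedral.half_commute_left hr2 he2 heven).symm)
      exact Dihedral.ne_one hz2 (mul_left_cancel (this.symm.trans (mul_one r).symm))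
    have hodd' : Odd (orderOf (r' * ⟨e, heC⟩)) := by rw [← Subgroup.orderOf_coe]; exact hodd
    obtain ⟨g, hg⟩ := isConj_iff.1 (Dihedral.isConj_of_odd hr'2
      (show orderOf (⟨e, heC⟩ : ↥(Subgroup.closure D)) = 2 from (Subgroup.orderOf_mk _ _).trans he2) hodd')
    rw [← hg, map_mul, map_mul, map_inv, ← hcentral g, mul_inv_cancel_right]
  have hr1 : π r' * π r' = 1 := by rw [← map_mul, Dihedral.mul_self hr'2, map_one]
  have hsplit : ∀ y : ↥(Subgroup.closure D), π y = 1 ∨ π y = π r' := by
    intro y
    obtain ⟨x, hx⟩ := y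
    induction hx using Subgroup.closure_induction with
    | mem e he => exact Or.inr (hconj e he _)
    | one => exact Or.inl (map_one π)
    | mul x y hx hy ihx ihy =>
      rw [show (⟨x * y, _⟩ : ↥(Subgroup.closure D)) = ⟨x, hx⟩ * ⟨y, hy⟩ from rfl, map_mul]
      rcases ihx with e₁ | e₁ <;> rcases ihy with e₂ | e₂ <;> simp [e₁, e₂, hr1]
    | inv x hx ihx =>
      rw [show (⟨x⁻¹, _⟩ : ↥(Subgroup.closure D)) = ⟨x, hx⟩⁻¹ from rfl, map_inv]
      rcases ihx with e₁ | e₁ <;> simp [e₁, inv_eq_of_mul_eq_one_right hr1]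
  rcases hsplit x with e | e
  · exact Or.inl ((QuotientGroup.eq_one_iff x).1 e)
  · refine Or.inr ((QuotientGroup.eq_one_iff _).1 ?_)
    show π (x * r') = 1
    rw [map_mul, e, hr1]

variable [Finite Ω] [Nontrivial Ω]

omit [Finite Ω] in
/-- Two commuting members give two commuting involutions of the image. -/
theorem exists_two_genImage {r s : G} (hr : r ∈ D) (hs : s ∈ D) (hrs : Commute r s) (hne : r ≠ s) :
    ∃ x y : ↥(genImage D Ω),
      x ≠ 1 ∧ y ≠ 1 ∧ x ≠ y ∧ x * x = 1 ∧ y * y = 1 ∧ x * y = y * x := by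
  have himg : ∀ d ∈ D, ∀ hd' : d ∈ Subgroup.closure D,
      orderOf (genMap D Ω ⟨d, hd'⟩) = 2 := fun d hd hd' =>
    (closedSetting_genImage h).orderOf_eq _ ⟨_, hd, rfl⟩
  refine ⟨genMap D Ω ⟨r, Subgroup.subset_closure hr⟩, genMap D Ω ⟨s, Subgroup.subset_closure hs⟩,
    Dihedral.ne_one (himg r hr _), Dihedral.ne_one (himg s hs _), fun e => ?_,
    Dihedral.mul_self (himg r hr _), Dihedral.mul_self (himg s hs _), ?_⟩
  · obtain ⟨p, hp⟩ := h.exists_fixed r hr
    obtain ⟨c, hc⟩ := exists_ne p
    have hfix : ∀ c : Ω, (r * s) • c = c := fun c => by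
      have e1 : r • s • c = s • s • c := congrArg (fun g : ↥(genImage D Ω) => g • (s • c)) e
      rw [mul_smul, e1, smul_smul, h.mul_self hs, one_smul]
    exact hc (h.pair_unique r hr s hs hrs hne c p (hfix c) (hfix p))
  · rw [← map_mul, ← map_mul]
    exact congrArg (genMap D Ω) (Subtype.ext hrs.eq)

omit [Finite Ω] in
theorem exists_setup_genImage (hno : NoBad ↥(genImage D Ω) Ω)
    (h2 : ∃ x y : ↥(genImage D Ω),
      x ≠ 1 ∧ y ≠ 1 ∧ x ≠ y ∧ x * x = 1 ∧ y * y = 1 ∧ x * y = y * x) (c : Ω) :
    ∃ (t : ↥(genImage D Ω)) (Q : Subgroup ↥(genImage D Ω)),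
      Cfsg.IsRankOneSetup ↥(genImage D Ω) Ω c t Q := by
  haveI := pretransitive_genImage h
  have hL := closedSetting_genImage h
  obtain ⟨d, hd⟩ := OnePoint.dat_nonempty hL.covers c
  exact Line.exists_setup_of_noBad hno c (hL.orderOf_eq d hd.1) hd.2 (BenderSplit.orderOf_pair h2)

/-- With two commuting members the kernel has odd order. -/
theorem odd_kernel (hno : NoBad ↥(genImage D Ω) Ω) {r s : G} (hr : r ∈ D) (hs : s ∈ D)
    (hrs : Commute r s) (hne : r ≠ s) {x : ↥(Subgroup.closure D)} (hx : genMap D Ω x = 1) :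
    Odd (orderOf x) := by
  have h2 := exists_two_genImage h hr hs hrs hne
  have hL := closedSetting_genImage h
  have hcomm : ∀ c : Ω, ∀ d ∈ D, d ∈ (⊤ : Subgroup G) → d • c = c → ∀ e ∈ D,
      e ∈ (⊤ : Subgroup G) → e • c = c → ∀ q ∈ ptsOf D Ω (⊤ : Subgroup G),
        (d * e) • q = (e * d) • q := by
    intro c d hd _ hdc e he _ hec q _
    obtain ⟨t, Q, hS⟩ := exists_setup_genImage h hno h2 c
    obtain ⟨Z, K₀, A⟩ := CfsgLib.RankOne.Small.exists_data hS h2
    have hmem : ∀ y ∈ D, ∀ hy : y ∈ Subgroup.closure D, y • c = c → genMap D Ω ⟨y, hy⟩ ∈ Z :=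
      fun y hyD hy hyc => (A.mem_Z _).2
        ⟨mem_stabilizer_iff.2 hyc, hL.mul_self ⟨⟨y, hy⟩, hyD, rfl⟩⟩
    have h3 := congrArg (fun g : ↥(genImage D Ω) => g • q)
      ((A.central _ (hmem d hd (Subgroup.subset_closure hd) hdc)).2 _
        (A.central _ (hmem e he (Subgroup.subset_closure he) hec)).1)
    simp only [mul_smul] at h3 ⊢
    exact h3
  obtain ⟨p, hp⟩ := h.exists_fixed r hr
  obtain ⟨b, hbp⟩ := exists_ne p
  obtain ⟨d, hd, hdb⟩ := OnePoint.dat_nonempty h.covers b
  have hkodd := odd_kerOf h hcomm (a := p) (b := b) ⟨d, hd, trivial, hdb⟩ hbp hr hs trivial trivial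
    hp (h.fix_of_commute hr hp hrs) hrs hne
  have hxk : (x : G) ∈ kerOf D Ω (⊤ : Subgroup G) := by
    refine mem_kerOf.2 ⟨?_, fun c _ => ?_⟩
    · show (x : G) ∈ Subgroup.closure (D ∩ ((⊤ : Subgroup G) : Set G))
      rw [Subgroup.coe_top, Set.inter_univ]
      exact x.2
    · show x • c = c
      rw [← genMap_smul, hx, one_smul]
  rw [← Subgroup.orderOf_coe]
  exact hkodd.of_dvd_nat (Subgroup.orderOf_dvd_natCard _ hxk)

/-- No involution of the group generated by the members is bad. -/
theorem not_bad_of_genImage (hno : NoBad ↥(genImage D Ω) Ω) {x : G} (hx : x ∈ Subgroup.closure D) :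
    ¬ IsBad Ω x := by
  rintro ⟨hx2, a, b, hab, ha, hb⟩
  by_cases hiso : ∀ d ∈ D, ∀ e ∈ D, Commute d e → d = e
  · obtain ⟨r, hr, -⟩ := OnePoint.dat_nonempty h.covers a
    rcases mem_oddCore_or h hr hiso ⟨x, hx⟩ with e | e
    · have := ZStar.odd_orderOf_of_mem e
      rw [Subgroup.orderOf_mk, hx2] at this
      exact absurd this (by decide)
    · have hodd := ZStar.odd_orderOf_of_mem e
      rw [← Subgroup.orderOf_coe] at hodd
      obtain ⟨g, hg⟩ := isConj_iff.1 (Dihedral.isConj_of_odd hx2 (h.orderOf_eq r hr) hodd)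
      have hxD : x ∈ D := by
        have := h.conj_mem g⁻¹ r hr
        rw [← hg] at this
        simpa [mul_assoc] using this
      exact hab (h.fixed_unique x hxD a b ha hb)
  · push Not at hiso
    obtain ⟨r, hr, s, hs, hrs, hne⟩ := hiso
    refine hno (genMap D Ω ⟨x, hx⟩) ⟨orderOf_eq_prime ?_ fun e => ?_, a, b, hab, ha, hb⟩
    · rw [← map_pow, show (⟨x, hx⟩ : ↥(Subgroup.closure D)) ^ 2 = 1 from
        Subtype.ext (by simpa [pow_two] using Dihedral.mul_self hx2), map_one]
    · have := odd_kernel h hno hr hs hrs hne e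
      rw [Subgroup.orderOf_mk, hx2] at this
      exact absurd this (by decide)

end CfsgLib.LocalEven.OnePointFront
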