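import Cfsg.Agent.Lib.LocalEven.OnePointFront.Kernel
import Cfsg.Agent.Lib.LocalEven.OnePointFront.Reductions.Setting
import Cfsg.Agent.Lib.LocalEven.TIEndgame.Main

/-!
# No bad involution in the group generated by the groups at the points

Let `H` be generated by the involutions of the groups `K a`.  If `GoodNoBad` holds, no involution of
the group generated by all `K a` fixes two points.  If no two of the involutions commute, `H` has a
normal 2-complement by `Z*`.  Otherwise the image of `H` has a rank-one set-up, the kernel is odd, and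
an element `s u` with `s` a translation and `u ∈ K a` centralises the torus modulo `K a`, so `s` lies
in `K a` modulo the kernel.
-/

set_option autoImplicit false
set_option linter.style.haveILetI false

namespace CfsgLib.LocalEven.OnePointFront

open MulAction CfsgLib.LocalEven.TIEndgame CfsgLib.Involution

universe u

namespace PointGroups

variable {G Ω : Type u} [Group G] [MulAction G Ω] {K : Ω → Subgroup G} (h : PointGroups K)
include h

/-- An involution which is an element of odd order fixing `a` times an element of `K a` is in `K a`. -/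
theorem mem_of_odd_mul {a : Ω} {n q : G} (hn : n • a = a) (hodd : Odd (orderOf n)) (hq : q ∈ K a)
    (hu : (n * q) * (n * q) = 1) : n * q ∈ K a := by
  haveI := h.normal a
  set N : stabilizer G a := ⟨n, mem_stabilizer_iff.2 hn⟩
  set Q' : stabilizer G a := ⟨q, h.le a hq⟩
  let π := QuotientGroup.mk' ((K a).subgroupOf (stabilizer G a))
  have hπq : π Q' = 1 := (QuotientGroup.eq_one_iff _).2 hq
  have hπ2 : π N * π N = 1 := by
    have h1 : π (N * Q') * π (N * Q') = 1 := by
      rw [← map_mul, show N * Q' * (N * Q') = 1 from Subtype.ext hu, map_one]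
    rwa [map_mul, hπq, mul_one] at h1
  obtain ⟨m, hm⟩ := hodd
  have hπ1 : π N = 1 := by
    have h2 : π N ^ (2 * m + 1) = 1 := by
      rw [← map_pow, ← hm, show orderOf n = orderOf N from (Subgroup.orderOf_mk _ _).symm,
        pow_orderOf_eq_one, map_one]
    rwa [pow_succ, pow_mul, pow_two, hπ2, one_pow, one_mul] at h2
  exact mul_mem ((QuotientGroup.eq_one_iff N).1 hπ1) hq

/-- An element of the group generated by all `K c` is an element of the normal subgroup generated by
the involutions times an element of `K a`. -/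
theorem exists_eq_mul [Finite G] {u : G} (hu : u ∈ ⨆ c, K c) (a : Ω) :
    ∃ x ∈ Subgroup.closure (involsOf K), ∃ q ∈ K a, u = x * q := by
  set H := Subgroup.closure (involsOf K)
  haveI hn : H.Normal := ⟨fun x hx g => by
    have hle : H ≤ H.comap (MulAut.conj g).toMonoidHom := (Subgroup.closure_le _).2 fun d hd =>
      Subgroup.subset_closure (h.closedSetting.conj_mem g d hd)
    exact hle hx⟩
  have h' := (h.restrict (H := H) Subgroup.subset_closure).closedSetting
  have hle : ⨆ c, K c ≤ H ⊔ K a := iSup_le fun c x hx => by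
    obtain ⟨g, hg⟩ := h'.exists_move h'.covers c a
    have hga : (g : G) • c = a := hg
    have hy := h.conj (g : G) c x hx
    rw [hga] at hy
    have : x = (g : G)⁻¹ * ((g : G) * x * (g : G)⁻¹) * (g : G) := by group
    rw [this]
    exact mul_mem (mul_mem (Subgroup.mem_sup_left (inv_mem g.2)) (Subgroup.mem_sup_right hy))
      (Subgroup.mem_sup_left g.2)
  obtain ⟨x, hx, q, hq, e⟩ := Subgroup.mem_sup_of_normal_left.1 (hle hu)
  exact ⟨x, hx, q, hq, e.symm⟩

variable [Finite G]

/-- No two of the involutions commute: a bad involution is impossible. -/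
theorem false_of_isolated {u : G} (hu : u ∈ ⨆ c, K c) (hu2 : orderOf u = 2) {a b : Ω} (hab : a ≠ b)
    (hua : u • a = a) (hub : u • b = b)
    (hiso : ∀ d ∈ involsOf K, ∀ e ∈ involsOf K, Commute d e → d = e) : False := by
  obtain ⟨r, hr, hr2⟩ := h.exists_invol a
  have hrD : r ∈ involsOf K := ⟨hr2, a, hr⟩
  set H := Subgroup.closure (involsOf K)
  set r' : ↥H := ⟨r, Subgroup.subset_closure hrD⟩
  have hr'2 : orderOf r' = 2 := (Subgroup.orderOf_mk _ _).trans hr2
  have hiso' : Cfsg.IsIsolatedInvolution r' :=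
    ⟨hr'2, fun g hg => Subtype.ext ((hiso r hrD _ (h.closedSetting.conj_mem (g : G) r hrD)
      (congrArg Subtype.val hg.eq)).symm)⟩
  have hZ := CfsgLib.Involution.ZStar.comm_mem_oddCore hiso'
  haveI : (Cfsg.oddCore ↥H).Normal := ZStar.oddCore_normal
  let π := QuotientGroup.mk' (Cfsg.oddCore ↥H)
  have hcentral : ∀ g : ↥H, π r' * π g = π g * π r' := fun g => by
    have h1 : π (r' * g * r'⁻¹ * g⁻¹) = 1 := (QuotientGroup.eq_one_iff _).2 (hZ g)
    rw [map_mul, map_mul, map_mul, map_inv, map_inv, mul_inv_eq_one] at h1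
    exact mul_inv_eq_iff_eq_mul.1 h1
  have hconj : ∀ e ∈ involsOf K, ∀ heH : e ∈ H, π ⟨e, heH⟩ = π r' := by
    intro e he heH
    have hodd : Odd (orderOf (r * e)) := by
      rw [← Nat.not_even_iff_odd]
      intro heven
      obtain ⟨hz2, hzl⟩ : orderOf ((r * e) ^ (orderOf (r * e) / 2)) = 2 ∧
          Commute r ((r * e) ^ (orderOf (r * e) / 2)) := by
        refine ⟨orderOf_pow_orderOf_div (orderOf_pos _).ne' heven.two_dvd, ?_⟩
        exact (Dihedral.half_commute_left hr2 he.1 heven).symm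
      have hmem : r * (r * e) ^ (orderOf (r * e) / 2) ∈ involsOf K := by
        rw [← zpow_natCast]; exact h.closedSetting.reflection_mem hrD he _
      have := hiso r hrD _ hmem ((Commute.refl r).mul_right hzl)
      exact Dihedral.ne_one hz2 (mul_left_cancel (this.symm.trans (mul_one r).symm))
    have hodd' : Odd (orderOf (r' * ⟨e, heH⟩)) := by
      rw [← Subgroup.orderOf_coe]; exact hodd
    obtain ⟨g, hg⟩ := isConj_iff.1 (Dihedral.isConj_of_odd hr'2
      (show orderOf (⟨e, heH⟩ : ↥H) = 2 from (Subgroup.orderOf_mk _ _).trans he.1) hodd')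
    rw [← hg, map_mul, map_mul, map_inv, ← hcentral g, mul_inv_cancel_right]
  have hsplit : ∀ g : ↥H, π g = 1 ∨ π g = π r' := by
    have hr1 : π r' * π r' = 1 := by rw [← map_mul, Dihedral.mul_self hr'2, map_one]
    intro g
    obtain ⟨g, hg⟩ := g
    induction hg using Subgroup.closure_induction with
    | mem e he => exact Or.inr (hconj e he _)
    | one => exact Or.inl (map_one π)
    | mul x y hx hy ihx ihy =>
      rw [show (⟨x * y, _⟩ : ↥H) = ⟨x, hx⟩ * ⟨y, hy⟩ from rfl, map_mul]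
      rcases ihx with e₁ | e₁ <;> rcases ihy with e₂ | e₂ <;> simp [e₁, e₂, hr1]
    | inv x hx ihx =>
      rw [show (⟨x⁻¹, _⟩ : ↥H) = ⟨x, hx⟩⁻¹ from rfl, map_inv]
      rcases ihx with e₁ | e₁ <;> simp [e₁, inv_eq_of_mul_eq_one_right hr1]
  obtain ⟨x, hx, q, hq, rfl⟩ := h.exists_eq_mul hu a
  have hqa := mem_stabilizer_iff.1 (h.le a hq)
  have hxa : x • a = a := by rw [mul_smul, hqa] at hua; exact hua
  have hra := mem_stabilizer_iff.1 (h.le a hr)
  have hmem : x * q ∈ K a := by
    rcases hsplit ⟨x, hx⟩ with e | e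
    · refine h.mem_of_odd_mul hxa ?_ hq (Dihedral.mul_self hu2)
      have := ZStar.odd_orderOf_of_mem ((QuotientGroup.eq_one_iff _).1 e)
      rwa [Subgroup.orderOf_mk] at this
    · have e' : π (⟨x, hx⟩ * r'⁻¹) = 1 := by rw [map_mul, map_inv, e, mul_inv_cancel]
      have hodd := ZStar.odd_orderOf_of_mem ((QuotientGroup.eq_one_iff _).1 e')
      rw [← Subgroup.orderOf_coe] at hodd
      have := h.mem_of_odd_mul (a := a) (n := x * r⁻¹) (q := r * q)
        (by rw [mul_smul, inv_smul_eq_iff.2 hra.symm, hxa]) hodd (mul_mem hr hq)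
        (by rw [show x * r⁻¹ * (r * q) = x * q by group]; exact Dihedral.mul_self hu2)
      rwa [show x * r⁻¹ * (r * q) = x * q by group] at this
  exact hab (h.unique a b _ hu2 hmem hub).symm

/-- Two of the involutions commute: a bad involution is impossible. -/
theorem false_of_commuting [Finite Ω] (hNB : GoodNoBad.{u}) {u : G} (hu : u ∈ ⨆ c, K c)
    (hu2 : orderOf u = 2) {a b : Ω} (hab : a ≠ b) (hua : u • a = a) (hub : u • b = b) {r s : G}
    (hr : r ∈ involsOf K) (hs : s ∈ involsOf K) (hrs : Commute r s) (hne : r ≠ s) : False := by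
  classical
  haveI : Fact (Nat.Prime 2) := ⟨Nat.prime_two⟩
  haveI : Nontrivial Ω := ⟨⟨a, b, hab⟩⟩
  have hcs := h.closedSetting
  set H := Subgroup.closure (involsOf K) with hH
  haveI hHn : H.Normal := ⟨fun x hx g => by
    have hle : H ≤ H.comap (MulAut.conj g).toMonoidHom := (Subgroup.closure_le _).2 fun d hd =>
      Subgroup.subset_closure (hcs.conj_mem g d hd)
    exact hle hx⟩
  -- the faithful image of `H`
  let L : Subgroup (Equiv.Perm Ω) := (MulAction.toPermHom ↥H Ω).range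
  let f : ↥H →* ↥L := (MulAction.toPermHom ↥H Ω).rangeRestrict
  have hsurj : Function.Surjective f := MonoidHom.rangeRestrict_surjective _
  have hf : ∀ (g : ↥H) (c : Ω), f g • c = g • c := fun _ _ => rfl
  haveI : FaithfulSMul ↥L Ω := ⟨fun e => Subtype.ext (Equiv.ext e)⟩
  have hH' := h.restrict (H := H) Subgroup.subset_closure
  have hL := hH'.map hsurj hf
  have hDL : involsOf (fun c => ((K c).subgroupOf H).map f) =
      f '' {d : ↥H | (d : G) ∈ involsOf K} := by
    rw [hH'.involsOf_map hf, PointGroups.involsOf_restrict]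
  have hgen : Subgroup.closure (involsOf fun c => ((K c).subgroupOf H).map f) = ⊤ := by
    rw [hDL, ← MonoidHom.map_closure,
      show Subgroup.closure {d : ↥H | (d : G) ∈ involsOf K} = ⊤ from
        Subgroup.closure_closure_coe_preimage,
      Subgroup.map_top_of_surjective _ hsurj]
  have hno : NoBad ↥L Ω := hNB ↥L Ω _ _ hL.closedSetting hL.goodGroups hgen
  haveI : IsPretransitive ↥L Ω := ⟨hL.closedSetting.exists_move hL.closedSetting.covers⟩
  -- two commuting involutions of the image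
  have himg : ∀ d ∈ involsOf K, ∀ hdH : d ∈ H, orderOf (f ⟨d, hdH⟩) = 2 := fun d hd hdH => by
    refine hL.closedSetting.orderOf_eq _ ?_
    rw [hDL]
    exact ⟨_, hd, rfl⟩
  obtain ⟨p, hp⟩ := hcs.exists_fixed r hr
  have hsp : s • p = p := hcs.fix_of_commute hr hp hrs
  have hrsne : f ⟨r, Subgroup.subset_closure hr⟩ ≠ f ⟨s, Subgroup.subset_closure hs⟩ := by
    intro e
    obtain ⟨c, hc⟩ := exists_ne p
    have hfix : ∀ c : Ω, (r * s) • c = c := fun c => by
      have e1 : (r : G) • s • c = s • s • c := by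
        have := congrArg (fun g : ↥L => g • (s • c)) e
        exact this
      rw [mul_smul, e1, smul_smul, hcs.mul_self hs, one_smul]
    exact hc (hcs.pair_unique r hr s hs hrs hne c p (hfix c) (hfix p))
  have h2 : ∃ x y : ↥L, x ≠ 1 ∧ y ≠ 1 ∧ x ≠ y ∧ x * x = 1 ∧ y * y = 1 ∧ x * y = y * x :=
    ⟨_, _, Dihedral.ne_one (himg r hr _), Dihedral.ne_one (himg s hs _), hrsne,
      Dihedral.mul_self (himg r hr _), Dihedral.mul_self (himg s hs _),
      by rw [← map_mul, ← map_mul]; exact congrArg f (Subtype.ext hrs.eq)⟩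
  have hsetup : ∀ c : Ω, ∃ (t : ↥L) (Q : Subgroup ↥L), Cfsg.IsRankOneSetup ↥L Ω c t Q := fun c => by
    obtain ⟨d, hd, hd2⟩ := hL.exists_invol c
    exact Line.exists_setup_of_noBad hno c hd2 (mem_stabilizer_iff.1 (hL.le c hd))
      (BenderSplit.orderOf_pair h2)
  -- members at a point commute on the points, so the kernel is odd
  have hcomm : ∀ c : Ω, ∀ d ∈ involsOf K, d ∈ (⊤ : Subgroup G) → d • c = c → ∀ e ∈ involsOf K,
      e ∈ (⊤ : Subgroup G) → e • c = c → ∀ q ∈ ptsOf (involsOf K) Ω (⊤ : Subgroup G),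
        (d * e) • q = (e * d) • q := by
    intro c d hd _ hdc e he _ hec q _
    obtain ⟨t, Q, hS⟩ := hsetup c
    obtain ⟨Z, K₀, A⟩ := CfsgLib.RankOne.Small.exists_data hS h2
    have hmem : ∀ x ∈ involsOf K, ∀ hxH : x ∈ H, x • c = c → f ⟨x, hxH⟩ ∈ Z := fun x hx hxH hxc =>
      (A.mem_Z _).2 ⟨mem_stabilizer_iff.2 hxc, Dihedral.mul_self (himg x hx hxH)⟩
    have hde := hmem d hd (Subgroup.subset_closure hd) hdc
    have he' := hmem e he (Subgroup.subset_closure he) hec
    have := (A.central _ hde).2 _ (A.central _ he').1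
    have h3 := congrArg (fun g : ↥L => g • q) this
    simp only [mul_smul] at h3 ⊢
    exact h3
  obtain ⟨b', hb', hb'p⟩ : ∃ b', b' ∈ ptsOf (involsOf K) Ω (⊤ : Subgroup G) ∧ b' ≠ p := by
    obtain ⟨b', hb'p⟩ := exists_ne p
    obtain ⟨d, hd, hd2⟩ := h.exists_invol b'
    exact ⟨b', ⟨d, ⟨hd2, b', hd⟩, trivial, mem_stabilizer_iff.1 (h.le b' hd)⟩, hb'p⟩
  have hkodd := odd_kerOf hcs hcomm hb' hb'p hr hs trivial trivial hp hsp hrs hne
  have hker : ∀ x : ↥H, f x = 1 → Odd (orderOf x) := fun x hx => by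
    have hxk : (x : G) ∈ kerOf (involsOf K) Ω (⊤ : Subgroup G) := by
      refine mem_kerOf.2 ⟨?_, fun c _ => ?_⟩
      · show (x : G) ∈ Subgroup.closure (involsOf K ∩ ((⊤ : Subgroup G) : Set G))
        rw [Subgroup.coe_top, Set.inter_univ]
        exact x.2
      · show x • c = c
        rw [← hf, hx, one_smul]
    rw [← Subgroup.orderOf_coe]
    exact hkodd.of_dvd_nat (Subgroup.orderOf_dvd_natCard _ hxk)
  -- replace the part in `H` by a 2-element
  haveI := h.normal a
  haveI := hL.normal a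
  let φ : ↥(stabilizer ↥H a) →* stabilizer G a ⧸ (K a).subgroupOf (stabilizer G a) :=
    (QuotientGroup.mk' _).comp (MonoidHom.mk' (fun g => ⟨((g : ↥H) : G),
      mem_stabilizer_iff.2 (mem_stabilizer_iff.1 g.2 : _)⟩) fun _ _ => rfl)
  obtain ⟨x, hx, q, hq, hxq⟩ := h.exists_eq_mul hu a
  have hqa := mem_stabilizer_iff.1 (h.le a hq)
  have hxa : x • a = a := by rw [hxq, mul_smul, hqa] at hua; exact hua
  set x' : ↥(stabilizer ↥H a) := ⟨⟨x, hx⟩, mem_stabilizer_iff.2 hxa⟩
  set u' : stabilizer G a := ⟨u, mem_stabilizer_iff.2 hua⟩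
  have hφx : φ x' = QuotientGroup.mk' ((K a).subgroupOf (stabilizer G a)) u' := by
    refine (QuotientGroup.eq).2 ?_
    show x⁻¹ * u ∈ K a
    rw [hxq, inv_mul_cancel_left]; exact hq
  obtain ⟨⟨⟨w, hwH⟩, hwa⟩, hφw, k₀, hwk⟩ := Line.exists_lift_two φ x' (j := 1) (by
    rw [hφx, ← map_pow, pow_one, pow_two,
      show u' * u' = 1 from Subtype.ext (Dihedral.mul_self hu2), map_one])
  have hwa' : w • a = a := mem_stabilizer_iff.1 hwa
  have hwK : w⁻¹ * u ∈ K a :=
    (QuotientGroup.eq (a := (⟨w, mem_stabilizer_iff.2 hwa'⟩ : stabilizer G a)) (b := u')).1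
      (hφw.trans hφx)
  set q' := w⁻¹ * u with hq'
  have huw : u = w * q' := by rw [hq', mul_inv_cancel_left]
  set w' : ↥H := ⟨w, hwH⟩
  -- the set-up at the two points
  obtain ⟨t₀, Q, hS₀⟩ := hsetup a
  obtain ⟨t, hS, htb⟩ := Line.exists_setup_at hS₀ (Ne.symm hab)
  obtain ⟨Z, K₀, A⟩ := CfsgLib.RankOne.Small.exists_data hS h2
  have hQ2 := CfsgLib.RankOne.isPGroup_Q hS h2
  have hwQ : f w' ∈ Q := Line.mem_of_two_power hS (mem_stabilizer_iff.2 hwa') (k := k₀) (by
    rw [← map_pow, show w' ^ 2 ^ k₀ = 1 from congrArg Subtype.val hwk, map_one])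
  obtain ⟨k, hkK, hk1⟩ : ∃ k ∈ K₀, k ≠ 1 := by
    by_contra hcon
    push Not at hcon
    have := A.two_le_K
    rw [(Subgroup.eq_bot_iff_forall _).2 hcon, Subgroup.card_bot] at this
    omega
  have hk2 := A.le_two hkK
  have hkab : k • a = a ∧ k • b = b := by
    have := (CfsgLib.RankOne.mem_two hS).1 hk2
    rwa [htb] at this
  obtain ⟨k', rfl⟩ := hsurj k
  have hka : (k' : G) • a = a := hkab.1
  have hkb : (k' : G) • b = b := hkab.2
  have hinv : ∀ {g : G} {c : Ω}, g • c = c → g⁻¹ • c = c := fun hg => inv_smul_eq_iff.2 hg.symm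
  set τ : ↥H := ⟨u * k' * u⁻¹ * (k' : G)⁻¹, mul_mem (hHn.conj_mem _ k'.2 u) (inv_mem k'.2)⟩
  set c : ↥H := w' * k' * w'⁻¹ * k'⁻¹
  set R := ((K a).subgroupOf H).map f with hR
  have hτ : f τ * (f c)⁻¹ ∈ R := by
    rw [← map_inv, ← map_mul]
    refine ⟨τ * c⁻¹, ?_, rfl⟩
    show u * k' * u⁻¹ * (k' : G)⁻¹ * (w * k' * w⁻¹ * (k' : G)⁻¹)⁻¹ ∈ K a
    rw [huw, show w * q' * k' * (w * q')⁻¹ * (k' : G)⁻¹ * (w * k' * w⁻¹ * (k' : G)⁻¹)⁻¹ =
      w * (q' * (k' * q'⁻¹ * (k' : G)⁻¹)) * w⁻¹ by group]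
    exact h.conj_mem_of_fix hwa' (mul_mem hwK (h.conj_mem_of_fix hka (inv_mem hwK)))
  have hτ2 : f τ ∈ CfsgLib.RankOne.two ↥L a t := by
    rw [CfsgLib.RankOne.mem_two hS, htb]
    constructor
    · show (u * k' * u⁻¹ * (k' : G)⁻¹) • a = a
      rw [mul_smul, mul_smul, mul_smul, hinv hka, hinv hua, hka, hua]
    · show (u * k' * u⁻¹ * (k' : G)⁻¹) • b = b
      rw [mul_smul, mul_smul, mul_smul, hinv hkb, hinv hub, hkb, hub]
  have hτo : Odd (orderOf (f τ)) :=
    (show Odd (Nat.card (CfsgLib.RankOne.two ↥L a t)) from hS.odd_card).of_dvd_nat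
      (Subgroup.orderOf_dvd_natCard _ hτ2)
  have hkst : f k' ∈ stabilizer ↥L a := mem_stabilizer_iff.2 hkab.1
  have hcQ : f c ∈ Q := by
    rw [map_mul, map_inv, map_mul, map_inv, map_mul]
    have : f k' * (f w')⁻¹ * (f k')⁻¹ ∈ Q := hS.conj_mem _ hkst _ (inv_mem hwQ)
    rw [show f w' * f k' * (f w')⁻¹ * (f k')⁻¹ = f w' * (f k' * (f w')⁻¹ * (f k')⁻¹) by group]
    exact mul_mem hwQ this
  -- an element of 2-power order congruent to one of odd order
  have hcR : f c ∈ R := by
    let π := QuotientGroup.mk' (R.subgroupOf (stabilizer ↥L a))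
    set C : stabilizer ↥L a := ⟨f c, hS.le hcQ⟩
    set T : stabilizer ↥L a := ⟨f τ, hτ2.1⟩
    have hTC : π T = π C := by
      rw [← mul_inv_eq_one, ← map_inv, ← map_mul]
      exact (QuotientGroup.eq_one_iff _).2 hτ
    have h1 : orderOf (π C) ∣ orderOf (f τ) := by
      rw [← hTC]
      exact (orderOf_map_dvd π T).trans (dvd_of_eq (Subgroup.orderOf_mk _ _))
    obtain ⟨i, hi⟩ := hQ2 ⟨f c, hcQ⟩
    have h2' : orderOf (π C) ∣ 2 ^ i := (orderOf_map_dvd π C).trans (by
      rw [Subgroup.orderOf_mk]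
      exact orderOf_dvd_of_pow_eq_one (congrArg Subtype.val hi))
    have h3 : orderOf (π C) = 1 := Nat.eq_one_of_dvd_coprimes
      ((Nat.coprime_two_left.2 hτo).pow_left i).symm h1 h2'
    exact (QuotientGroup.eq_one_iff C).1 (orderOf_eq_one_iff.1 h3)
  -- conjugation by the torus is free on the translations
  let ψ : ↥(Q ⊓ R) → ↥(Q ⊓ R) := fun y => ⟨y * (f k' * (y : ↥L)⁻¹ * (f k')⁻¹), by
    have hyQ : (y : ↥L) ∈ Q := y.2.1
    have hyR : (y : ↥L) ∈ R := y.2.2
    exact ⟨mul_mem hyQ (hS.conj_mem _ hkst _ (inv_mem hyQ)),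
      mul_mem hyR (hL.conj_mem_of_fix hkab.1 (inv_mem hyR))⟩⟩
  have hfree : ∀ y ∈ Q, ∀ y' ∈ Q,
      y * (f k' * y⁻¹ * (f k')⁻¹) = y' * (f k' * y'⁻¹ * (f k')⁻¹) → y = y' := by
    intro y hy y' hy' e
    have hc : f k' * (y'⁻¹ * y) = (y'⁻¹ * y) * f k' := by
      have e' : y * f k' * y⁻¹ = y' * f k' * y'⁻¹ := by
        calc y * f k' * y⁻¹ = y * (f k' * y⁻¹ * (f k')⁻¹) * f k' := by group
          _ = y' * (f k' * y'⁻¹ * (f k')⁻¹) * f k' := by rw [e]
          _ = y' * f k' * y'⁻¹ := by group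
      calc f k' * (y'⁻¹ * y) = y'⁻¹ * (y' * f k' * y'⁻¹) * y := by group
        _ = y'⁻¹ * (y * f k' * y⁻¹) * y := by rw [e']
        _ = y'⁻¹ * y * f k' := by group
    have := A.fpf _ hkK hk1 _ (mul_mem (inv_mem hy') hy) hc
    exact (inv_mul_eq_one.1 this).symm
  have hψ : Function.Surjective ψ := Finite.surjective_of_injective fun y y' e =>
    Subtype.ext (hfree _ y.2.1 _ y'.2.1 (congrArg Subtype.val e))
  obtain ⟨y, hy⟩ := hψ ⟨f c, hcQ, hcR⟩
  have hwR : f w' ∈ R := by
    have e : (y : ↥L) = f w' := hfree _ y.2.1 _ hwQ (by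
      have h1 : (y : ↥L) * (f k' * (y : ↥L)⁻¹ * (f k')⁻¹) = f c := congrArg Subtype.val hy
      rw [h1, map_mul, map_inv, map_mul, map_inv, map_mul]
      group)
    exact e ▸ y.2.2
  obtain ⟨z, hz, hzw⟩ := hwR
  have hzK : (z : G) ∈ K a := hz
  have hza : (z : G) • a = a := mem_stabilizer_iff.1 (h.le a hzK)
  set n : ↥H := w' * z⁻¹
  have hn1 : f n = 1 := by rw [map_mul, map_inv, hzw, mul_inv_cancel]
  have hmem : (n : G) * ((z : G) * q') ∈ K a := by
    refine h.mem_of_odd_mul ?_ ?_ (mul_mem hzK hwK) ?_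
    · show (w * (z : G)⁻¹) • a = a
      rw [mul_smul, hinv hza, hwa']
    · rw [Subgroup.orderOf_coe]; exact hker n hn1
    · rw [show (n : G) * ((z : G) * q') = u by
        show w * (z : G)⁻¹ * ((z : G) * q') = u
        rw [huw]; group]
      exact Dihedral.mul_self hu2
  rw [show (n : G) * ((z : G) * q') = u by
    show w * (z : G)⁻¹ * ((z : G) * q') = u
    rw [huw]; group] at hmem
  exact hab (h.unique a b u hu2 hmem hub).symm

/-- **No bad involution in the group generated by the point groups.** -/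
theorem no_bad [Finite Ω] (hNB : GoodNoBad.{u}) {u : G} (hu : u ∈ ⨆ c, K c) (hu2 : orderOf u = 2)
    {a b : Ω} (hua : u • a = a) (hub : u • b = b) : a = b := by
  by_contra hab
  by_cases hiso : ∀ d ∈ involsOf K, ∀ e ∈ involsOf K, Commute d e → d = e
  · exact h.false_of_isolated hu hu2 hab hua hub hiso
  · push Not at hiso
    obtain ⟨r, hr, s, hs, hrs, hne⟩ := hiso
    exact h.false_of_commuting hNB hu hu2 hab hua hub hr hs hrs hne

end PointGroups

end CfsgLib.LocalEven.OnePointFront
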