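import Cfsg.Agent.Lib.LocalEven.OnePointFront.Reductions.Setting
import Cfsg.Agent.Lib.LocalEven.TIEndgame.Reductions

/-!
# Strongly closed subgroups with the centralisers of their involutions in a proper subgroup

The conjugates of the involutions of a strongly closed 2-subgroup form a closed setting on the cosets
of an overgroup of these centralisers and the normaliser, so in a simple group `ClosedNoBad` gives a
strongly embedded subgroup.
-/

set_option autoImplicit false
set_option linter.style.haveILetI false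

namespace CfsgLib.LocalEven.OnePointFront

open MulAction CfsgLib.LocalEven.TIEndgame CfsgLib.Involution

universe u

/-- Every faithful generated closed setting has no bad involution. -/
def ClosedNoBad : Prop :=
  ∀ (G : Type u) [Group G] [Finite G] (Ω : Type u) [Finite Ω] [MulAction G Ω] [FaithfulSMul G Ω]
    (D : Set G), ClosedSetting D Ω → Subgroup.closure D = ⊤ → NoBad G Ω

variable {G : Type u} [Group G]

/-- The conjugates of the involutions of `A`. -/
def conjInvols (A : Subgroup G) : Set G :=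
  {x | ∃ d ∈ {t | t ∈ A ∧ orderOf t = 2}, IsConj d x}

theorem mem_conjInvols {A : Subgroup G} {d : G} (hd : d ∈ A) (hd2 : orderOf d = 2) :
    d ∈ conjInvols A :=
  ⟨d, ⟨hd, hd2⟩, IsConj.refl d⟩

variable [Finite G] {T : Sylow 2 G} {A M : Subgroup G}

/-- A nontrivial strongly closed subgroup has an involution central in the Sylow subgroup. -/
theorem exists_central_invol (hA : Cfsg.IsStronglyClosed A (T : Subgroup G)) (hA1 : A ≠ ⊥) :
    ∃ z ∈ A, orderOf z = 2 ∧ ∀ s ∈ T, Commute s z := by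
  haveI : Fact (Nat.Prime 2) := ⟨Nat.prime_two⟩
  have hnorm : ∀ g ∈ (T : Subgroup G), ∀ x ∈ A, g * x * g⁻¹ ∈ A := fun g hg x hx =>
    hA.2 x hx g (mul_mem (mul_mem hg (hA.1 hx)) (inv_mem hg))
  letI : MulAction ↥(T : Subgroup G) ↥A :=
    { smul := fun g x => ⟨g * x * (g : G)⁻¹, hnorm g g.2 x x.2⟩
      one_smul := fun x => Subtype.ext (by show (1 : G) * x * (1 : G)⁻¹ = x; simp)
      mul_smul := fun g g' x => Subtype.ext (by
        show ((g : G) * g') * x * ((g : G) * g')⁻¹ = g * (g' * x * (g' : G)⁻¹) * (g : G)⁻¹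
        group) }
  have hA2 : IsPGroup 2 A := T.2.to_le hA.1
  obtain ⟨n, hn⟩ := IsPGroup.iff_card.1 hA2
  have hdvd : 2 ∣ Nat.card A := hn ▸ dvd_pow_self 2 fun e =>
    hA1 (Subgroup.eq_bot_of_card_eq A (by rw [hn, e, pow_zero]))
  have h1 : (1 : ↥A) ∈ fixedPoints ↥(T : Subgroup G) ↥A := fun g =>
    Subtype.ext (show (g : G) * (1 : G) * (g : G)⁻¹ = 1 by simp)
  obtain ⟨y, hy, hy1⟩ := T.2.exists_fixed_point_of_prime_dvd_card_of_fixed_point ↥A hdvd h1
  have hcomm : ∀ s ∈ T, Commute s (y : G) := fun s hs =>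
    mul_inv_eq_iff_eq_mul.1 (congrArg Subtype.val (hy ⟨s, hs⟩))
  obtain ⟨k, hk⟩ := hA2.exists_orderOf_eq_pow y
  rw [← Subgroup.orderOf_coe] at hk
  have hk0 : k ≠ 0 := by
    rintro rfl
    exact hy1 (Subtype.ext (orderOf_eq_one_iff.1 (by simpa using hk)).symm)
  exact ⟨_, pow_mem y.2 _, orderOf_pow_orderOf_div (x := (y : G)) (orderOf_pos _).ne'
    (hk ▸ dvd_pow_self 2 hk0), fun s hs => (hcomm s hs).pow_right _⟩

/-- The conjugates of the involutions form a closed setting. -/
theorem closedSetting_conjInvols (hA : Cfsg.IsStronglyClosed A (T : Subgroup G)) (hA1 : A ≠ ⊥)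
    (hC : ∀ t ∈ A, orderOf t = 2 → Subgroup.centralizer ({t} : Set G) ≤ M)
    (hN : Subgroup.normalizer (A : Set G) ≤ M) : ClosedSetting (conjInvols A) (G ⧸ M) := by
  obtain ⟨z, hzA, hz, hzT⟩ := exists_central_invol hA hA1
  obtain ⟨h1, h2⟩ := stronglyClosed_setting hA hz hzA hzT hC hN
  have hTM : (T : Subgroup G) ≤ M := fun s hs =>
    hC z hzA hz (Subgroup.mem_centralizer_singleton_iff.2 (hzT s hs).eq)
  refine { toOnePoint := h1, covers := h2, closed := fun P hP x hx hx2 => ?_ }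
  obtain hempty | ⟨d, hd, hdP⟩ := (conjInvols A ∩ (P : Set G)).eq_empty_or_nonempty
  · rw [hempty, Subgroup.closure_empty, Subgroup.mem_bot] at hx
    rw [hx, orderOf_one] at hx2
    exact absurd hx2 (by norm_num)
  obtain ⟨a, hda⟩ := h1.exists_fixed d hd
  have hPa := h1.le_stabilizer h2 hP ⟨hd, hda⟩ hdP
  induction a using QuotientGroup.induction_on with
  | H g =>
    -- conjugate the 2-group into the Sylow subgroup, where the members lie in `A`
    obtain ⟨m, -, hmT⟩ := exists_conj_into T hTM (hP.map (MulAut.conj g⁻¹).toMonoidHom) (by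
      rintro _ ⟨y, hy, rfl⟩
      simpa using SE.fixes_mk_iff.1 (mem_stabilizer_iff.1 (hPa hy)))
    set c := m⁻¹ * g⁻¹ with hc
    have hmem : ∀ y ∈ P, c * y * c⁻¹ ∈ (T : Subgroup G) := fun y hy => by
      have := hmT _ ⟨y, hy, rfl⟩
      convert this using 1
      simp [hc, mul_assoc]
    have hle : Subgroup.closure (conjInvols A ∩ (P : Set G)) ≤
        A.comap (MulAut.conj c).toMonoidHom := by
      refine (Subgroup.closure_le _).2 ?_
      rintro y ⟨⟨d₀, ⟨hd₀, -⟩, hy⟩, hyP⟩
      obtain ⟨k, rfl⟩ := isConj_iff.1 hy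
      show c * (k * d₀ * k⁻¹) * c⁻¹ ∈ A
      rw [show c * (k * d₀ * k⁻¹) * c⁻¹ = c * k * d₀ * (c * k)⁻¹ by group]
      refine hA.2 d₀ hd₀ _ ?_
      rw [show c * k * d₀ * (c * k)⁻¹ = c * (k * d₀ * k⁻¹) * c⁻¹ by group]
      exact hmem _ hyP
    exact ⟨c * x * c⁻¹, ⟨hle hx, (Dihedral.orderOf_conj c x).trans hx2⟩,
      isConj_iff.2 ⟨c⁻¹, by group⟩⟩

/-- In a simple group `ClosedNoBad` gives a strongly embedded subgroup. -/
theorem exists_stronglyEmbedded_of_closedNoBad (hNB : ClosedNoBad.{u}) [IsSimpleGroup G]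
    (hA : Cfsg.IsStronglyClosed A (T : Subgroup G)) (hA1 : A ≠ ⊥)
    (hprop : (⨆ t : {t : G // t ∈ A ∧ orderOf t = 2}, Subgroup.centralizer ({(t : G)} : Set G)) ≠ ⊤) :
    ∃ H : Subgroup G, Cfsg.IsStronglyEmbedded H := by
  classical
  set H₀ := ⨆ t : {t : G // t ∈ A ∧ orderOf t = 2}, Subgroup.centralizer ({(t : G)} : Set G)
  obtain ⟨z, hzA, hz, -⟩ := exists_central_invol hA hA1
  have hzH : z ∈ H₀ := Subgroup.mem_iSup_of_mem (⟨z, hzA, hz⟩ : {t : G // t ∈ A ∧ orderOf t = 2})
    (Subgroup.mem_centralizer_singleton_iff.2 rfl)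
  set M := Subgroup.normalizer (H₀ : Set G)
  have hC : ∀ t ∈ A, orderOf t = 2 → Subgroup.centralizer ({t} : Set G) ≤ M := fun t ht ht2 =>
    le_trans (le_iSup (fun t : {t : G // t ∈ A ∧ orderOf t = 2} =>
      Subgroup.centralizer ({(t : G)} : Set G)) ⟨t, ht, ht2⟩) Subgroup.le_normalizer
  have hN : Subgroup.normalizer (A : Set G) ≤ M := by
    intro g hg
    have key : ∀ k ∈ Subgroup.normalizer (A : Set G), ∀ x ∈ H₀, k * x * k⁻¹ ∈ H₀ := by
      intro k hk
      show H₀ ≤ H₀.comap (MulAut.conj k).toMonoidHom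
      refine iSup_le fun t x hx => ?_
      refine Subgroup.mem_iSup_of_mem (⟨k * t * k⁻¹, (Subgroup.mem_normalizer_iff.1 hk _).1 t.2.1,
        (Dihedral.orderOf_conj k _).trans t.2.2⟩ : {t : G // t ∈ A ∧ orderOf t = 2}) ?_
      rw [Subgroup.mem_centralizer_singleton_iff] at hx ⊢
      show k * x * k⁻¹ * (k * t * k⁻¹) = k * t * k⁻¹ * (k * x * k⁻¹)
      calc k * x * k⁻¹ * (k * t * k⁻¹) = k * (x * t) * k⁻¹ := by group
        _ = k * (t * x) * k⁻¹ := by rw [hx]
        _ = _ := by group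
    refine Subgroup.mem_normalizer_iff.2 fun x => ⟨key g hg x, fun h => ?_⟩
    have := key g⁻¹ (inv_mem hg) _ h
    simpa [mul_assoc] using this
  have hMtop : M ≠ ⊤ := by
    intro e
    rcases IsSimpleGroup.eq_bot_or_eq_top_of_normal H₀ (Subgroup.normalizer_eq_top_iff.1 e) with h | h
    · rw [h, Subgroup.mem_bot] at hzH
      exact Dihedral.ne_one hz hzH
    · exact hprop h
  have hs := closedSetting_conjInvols hA hA1 hC hN
  obtain ⟨x, hx⟩ : ∃ x : G, x ∉ M := by
    by_contra hall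
    push Not at hall
    exact hMtop (eq_top_iff.2 fun g _ => hall g)
  have hne : ((x : G) : G ⧸ M) ≠ ((1 : G) : G ⧸ M) := fun e =>
    hx (by simpa using QuotientGroup.eq.1 e.symm)
  -- the action is faithful
  haveI : FaithfulSMul G (G ⧸ M) := by
    refine ⟨fun {g k} e => ?_⟩
    have hcore : M.normalCore = ⊥ := by
      refine (IsSimpleGroup.eq_bot_or_eq_top_of_normal _ inferInstance).resolve_right fun h => ?_
      exact hMtop (eq_top_iff.2 (h ▸ M.normalCore_le))
    have h1 : k⁻¹ * g ∈ M.normalCore := by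
      intro b
      have h2 := e ((b⁻¹ : G) : G ⧸ M)
      rw [← inv_smul_eq_iff, ← mul_smul, SE.fixes_mk_iff] at h2
      simpa [mul_assoc] using h2
    rw [hcore, Subgroup.mem_bot, inv_mul_eq_one] at h1
    exact h1.symm
  -- the members generate
  have hgen : Subgroup.closure (conjInvols A) = ⊤ := by
    have hn : (Subgroup.closure (conjInvols A)).Normal := ⟨fun w hw g => by
      have hle : Subgroup.closure (conjInvols A) ≤
          (Subgroup.closure (conjInvols A)).comap (MulAut.conj g).toMonoidHom :=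
        (Subgroup.closure_le _).2 fun d hd => Subgroup.subset_closure (hs.conj_mem g d hd)
      exact hle hw⟩
    refine (IsSimpleGroup.eq_bot_or_eq_top_of_normal _ hn).resolve_left fun h => ?_
    have := Subgroup.subset_closure (mem_conjInvols hzA hz)
    rw [h, SetLike.mem_coe, Subgroup.mem_bot] at this
    exact Dihedral.ne_one hz this
  refine ⟨_, hs.toOnePoint.isStronglyEmbedded hs.covers (hNB G (G ⧸ M) _ hs hgen)
    ((1 : G) : G ⧸ M) ⟨_, hne⟩⟩

end CfsgLib.LocalEven.OnePointFront
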