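import Cfsg.Prelude.Def_Local
import Cfsg.Agent.Lib.Components.TightSylow
import Cfsg.Agent.Lib.Components.GenFitting
import Cfsg.Agent.Lib.OddOrder.Final.Main
import Cfsg.Agent.Lib.LocalEven.OnePointFront.Reductions.NoBad

/-!
# Tightly embedded subgroups meeting normalisers of their conjugates in odd order

The conjugates of `Q` are point groups on the cosets of `N(Q)`; with `GoodNoBad` the normaliser meets
the normal closure in a strongly embedded subgroup, and `F*(G)` as well if it is simple.
-/

set_option autoImplicit false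
set_option linter.style.haveILetI false

namespace CfsgLib.LocalEven.OnePointFront

open MulAction CfsgLib.LocalEven.TIEndgame CfsgLib.Involution

universe u

variable {G : Type u} [Group G] {Q : Subgroup G}

/-- The conjugate of `Q` at a coset of its normaliser. -/
noncomputable def conjAt (Q : Subgroup G) (c : G ⧸ Subgroup.normalizer (Q : Set G)) : Subgroup G :=
  Q.map (MulAut.conj c.out).toMonoidHom

theorem mem_conjAt {g x : G} :
    x ∈ conjAt Q (g : G ⧸ Subgroup.normalizer (Q : Set G)) ↔ g⁻¹ * x * g ∈ Q := by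
  obtain ⟨⟨m, hm⟩, e⟩ := QuotientGroup.mk_out_eq_mul (Subgroup.normalizer (Q : Set G)) g
  rw [conjAt, Subgroup.mem_map_equiv, e, MulAut.conj_symm_apply,
    Subgroup.mem_normalizer_iff.1 hm ((g * m)⁻¹ * x * (g * m))]
  rw [show m * ((g * m)⁻¹ * x * (g * m)) * m⁻¹ = g⁻¹ * x * g by group]

theorem mk_smul_mk (g c : G) {M : Subgroup G} : g • (c : G ⧸ M) = ((g * c : G) : G ⧸ M) := rfl

theorem iSup_conjAt :
    ⨆ c, conjAt Q c = Subgroup.normalClosure (Q : Set G) := by
  refine le_antisymm (iSup_le fun c x hx => ?_) ?_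
  · induction c using QuotientGroup.induction_on with
    | H g =>
      rw [mem_conjAt] at hx
      have := (Subgroup.normalClosure_normal (s := (Q : Set G))).conj_mem _
        (Subgroup.subset_normalClosure hx) g
      simpa [mul_assoc] using this
  · refine (Subgroup.closure_le _).2 fun x hx => ?_
    obtain ⟨q, hq, hqx⟩ := Group.mem_conjugatesOfSet_iff.1 hx
    obtain ⟨g, rfl⟩ := isConj_iff.1 hqx
    exact le_iSup (conjAt Q) (g : G ⧸ Subgroup.normalizer (Q : Set G))
      (mem_conjAt.2 (by simpa [mul_assoc] using hq))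

variable [Finite G]

/-- The conjugates are point groups. -/
theorem pointGroups_conjAt (hQ : Cfsg.IsTightlyEmbedded Q)
    (hodd : ∀ g : G, g ∉ Subgroup.normalizer (Q : Set G) →
      Odd (Nat.card ↥(Q.map (MulAut.conj g).toMonoidHom ⊓ Subgroup.normalizer (Q : Set G)))) :
    PointGroups (G := G) (Ω := G ⧸ Subgroup.normalizer (Q : Set G)) (conjAt Q) where
  le c x hx := by
    induction c using QuotientGroup.induction_on with
    | H g =>
      rw [mem_conjAt] at hx
      exact mem_stabilizer_iff.2 (SE.fixes_mk_iff.2 (Subgroup.le_normalizer hx))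
  conj g c x hx := by
    induction c using QuotientGroup.induction_on with
    | H c =>
      rw [mk_smul_mk, mem_conjAt]
      rw [mem_conjAt] at hx
      rwa [show (g * c)⁻¹ * (g * x * g⁻¹) * (g * c) = c⁻¹ * x * c by group]
  unique a b x hx2 hxa hb := by
    induction a using QuotientGroup.induction_on with
    | H g =>
      induction b using QuotientGroup.induction_on with
      | H b =>
        rw [mem_conjAt] at hxa
        rw [SE.fixes_mk_iff] at hb
        refine QuotientGroup.eq.2 ?_
        by_contra hne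
        refine Nat.not_even_iff_odd.2 (hodd _ hne)
          (Basic.even_of_involution_mem _ (t := b⁻¹ * x * b) ⟨⟨_, hxa, ?_⟩, hb⟩ ?_)
        · show b⁻¹ * g * (g⁻¹ * x * g) * (b⁻¹ * g)⁻¹ = b⁻¹ * x * b
          group
        · rw [show b⁻¹ * x * b = b⁻¹ * x * b⁻¹⁻¹ by group, Dihedral.orderOf_conj]; exact hx2
  exists_invol c := by
    induction c using QuotientGroup.induction_on with
    | H g =>
      obtain ⟨t, ht, ht2⟩ := Basic.exists_involution_of_even Q hQ.1
      exact ⟨g * t * g⁻¹, mem_conjAt.2 (by simpa [mul_assoc] using ht),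
        (Dihedral.orderOf_conj g t).trans ht2⟩

variable (hNB : GoodNoBad.{u}) (hQ : Cfsg.IsTightlyEmbedded Q)
  (hodd : ∀ g : G, g ∉ Subgroup.normalizer (Q : Set G) →
      Odd (Nat.card ↥(Q.map (MulAut.conj g).toMonoidHom ⊓ Subgroup.normalizer (Q : Set G))))

include hNB hQ hodd in
/-- An involution of the normal closure in `N(Q)` and in a conjugate of it lies in one `N(Q)`. -/
theorem mem_normalizer_of_common_invol {t g : G} (ht : t ∈ Subgroup.normalClosure (Q : Set G))
    (ht2 : orderOf t = 2) (htM : t ∈ Subgroup.normalizer (Q : Set G))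
    (htg : g⁻¹ * t * g ∈ Subgroup.normalizer (Q : Set G)) :
    g ∈ Subgroup.normalizer (Q : Set G) := by
  have h := (pointGroups_conjAt hQ hodd).no_bad hNB (u := t) (by rw [iSup_conjAt]; exact ht) ht2
    (a := ((1 : G) : G ⧸ Subgroup.normalizer (Q : Set G))) (b := (g : G ⧸ _))
    (fixes_one_iff.2 htM) (SE.fixes_mk_iff.2 htg)
  simpa using QuotientGroup.eq.1 h

include hNB hQ hodd in
/-- The normaliser meets every normal subgroup in the normal closure strongly embedded, if it
meets it in a proper subgroup of even order. -/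
theorem isStronglyEmbedded_subgroupOf {L : Subgroup G} (hL : L ≤ Subgroup.normalClosure (Q : Set G))
    (htop : ¬ L ≤ Subgroup.normalizer (Q : Set G))
    (heven : Even (Nat.card ↥(Subgroup.normalizer (Q : Set G) ⊓ L))) :
    Cfsg.IsStronglyEmbedded ((Subgroup.normalizer (Q : Set G)).subgroupOf L) := by
  set M := Subgroup.normalizer (Q : Set G)
  refine ⟨fun e => htop (Subgroup.subgroupOf_eq_top.1 e), ?_, fun g hg => ?_⟩
  · obtain ⟨t, ht, ht2⟩ := Basic.exists_involution_of_even _ heven
    exact Basic.even_of_involution_mem _ (t := (⟨t, ht.2⟩ : ↥L)) ht.1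
      ((Subgroup.orderOf_mk _ _).trans ht2)
  · rw [← Nat.not_even_iff_odd]
    intro he
    obtain ⟨t, ⟨htM, s, hs, hst⟩, ht2⟩ := Basic.exists_involution_of_even _ he
    refine hg (mem_normalizer_of_common_invol hNB hQ hodd (t := (t : G)) (hL t.2)
      ((Subgroup.orderOf_coe t).trans ht2) htM ?_)
    rw [← hst]
    have : (g : G)⁻¹ * ((g * s * g⁻¹ : ↥L) : G) * g = s := by
      simp [mul_assoc]
    exact this ▸ hs

include hNB hQ hodd in
/-- The normaliser is strongly embedded in the normal closure, unless `Q` is normal. -/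
theorem normal_or_isStronglyEmbedded :
    Q.Normal ∨ Cfsg.IsStronglyEmbedded
      ((Subgroup.normalizer (Q : Set G)).subgroupOf (Subgroup.normalClosure (Q : Set G))) := by
  rw [or_iff_not_imp_left]
  intro hn
  have hP := pointGroups_conjAt hQ hodd
  refine isStronglyEmbedded_subgroupOf hNB hQ hodd le_rfl (fun hle => ?_) ?_
  · refine hn (Subgroup.normalizer_eq_top_iff.1 (eq_top_iff.2 fun g _ => ?_))
    obtain ⟨x, hx, hx2⟩ := hP.exists_invol (g : G ⧸ Subgroup.normalizer (Q : Set G))
    have hxN : x ∈ Subgroup.normalClosure (Q : Set G) :=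
      iSup_conjAt (Q := Q) ▸ Subgroup.mem_iSup_of_mem _ hx
    have := hP.unique _ ((1 : G) : G ⧸ _) x hx2 hx (fixes_one_iff.2 (hle hxN))
    simpa using QuotientGroup.eq.1 this
  · obtain ⟨t, ht, ht2⟩ := Basic.exists_involution_of_even Q hQ.1
    exact Basic.even_of_involution_mem _
      (show t ∈ Subgroup.normalizer (Q : Set G) ⊓ Subgroup.normalClosure (Q : Set G) from
        ⟨Subgroup.le_normalizer ht, Subgroup.subset_normalClosure ht⟩) ht2

/-- A nontrivial normal subgroup contains a simple generalised Fitting subgroup. -/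
theorem generalizedFitting_le (hF : IsSimpleGroup ↥(Cfsg.generalizedFittingSubgroup G))
    {N : Subgroup G} (hN : N.Normal) (hne : N ≠ ⊥) : Cfsg.generalizedFittingSubgroup G ≤ N := by
  set F := Cfsg.generalizedFittingSubgroup G with hFdef
  haveI : F.Normal := by rw [hFdef]; infer_instance
  rcases hF.eq_bot_or_eq_top_of_normal (N.subgroupOf F) inferInstance with e | e
  · rw [Subgroup.subgroupOf_eq_bot] at e
    have hC : N ≤ Subgroup.centralizer (F : Set G) :=
      fun x hx => Subgroup.mem_centralizer_iff.2 fun y hy =>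
        (Subgroup.commute_of_normal_of_disjoint N F hN inferInstance e x y hx hy).symm.eq
    have hNF : N ≤ F := hC.trans CfsgLib.Components.centralizer_generalizedFitting_le
    exact absurd (disjoint_self.1 (e.mono_right hNF)) hne
  · exact Subgroup.subgroupOf_eq_top.1 e

include hNB hQ hodd in
/-- With a simple nonabelian `F*(G)`: normal, or `F*(G)` has a strongly embedded subgroup. -/
theorem normal_or_exists_stronglyEmbedded (hF : IsSimpleGroup ↥(Cfsg.generalizedFittingSubgroup G))
    (hF' : ¬ IsMulCommutative ↥(Cfsg.generalizedFittingSubgroup G)) :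
    Q.Normal ∨
      ∃ M : Subgroup ↥(Cfsg.generalizedFittingSubgroup G), Cfsg.IsStronglyEmbedded M := by
  classical
  rw [or_iff_not_imp_left]
  intro hn
  set F := Cfsg.generalizedFittingSubgroup G with hFdef
  haveI hFn : F.Normal := by rw [hFdef]; infer_instance
  haveI := hF
  set M := Subgroup.normalizer (Q : Set G) with hM
  have hP := pointGroups_conjAt hQ hodd
  obtain ⟨q, hq, hq2⟩ := Basic.exists_involution_of_even Q hQ.1
  have hFQ : F ≤ Subgroup.normalClosure (Q : Set G) :=
    generalizedFitting_le hF Subgroup.normalClosure_normal fun e => Dihedral.ne_one hq2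
      (by simpa [e] using Subgroup.subset_normalClosure (s := (Q : Set G)) hq)
  -- the simple group has an involution, fixing some point as their number is odd
  have hFeven : Even (Nat.card F) := by
    rw [← Nat.not_odd_iff_even]
    intro ho
    haveI := CfsgLib.OddOrder.Final.oddSolvable.{u} ↥F ho
    exact hF' ⟨⟨IsSimpleGroup.comm_iff_isSolvable.2 ‹_›⟩⟩
  obtain ⟨v, hv, hv2⟩ := Basic.exists_involution_of_even F hFeven
  have : Fact (Nat.Prime 2) := ⟨Nat.prime_two⟩
  have : Nonempty (G ⧸ M) := ⟨((1 : G) : G ⧸ M)⟩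
  obtain ⟨c, hc⟩ := (Basic.isPGroup_zpowers_of_two hv2).nonempty_fixed_point_of_prime_not_dvd_card
    (G ⧸ M) fun h2 => Nat.not_even_iff_odd.2
      (hP.closedSetting.odd_card_points hP.closedSetting.covers) (even_iff_two_dvd.2 h2)
  induction c using QuotientGroup.induction_on with
  | H g =>
    have hvg : v • (g : G ⧸ M) = g := hc ⟨v, Subgroup.mem_zpowers v⟩
    have hvM := SE.fixes_mk_iff.1 hvg
    have hvF : g⁻¹ * v * g ∈ F := by simpa using hFn.conj_mem v hv g⁻¹
    refine ⟨_, isStronglyEmbedded_subgroupOf hNB hQ hodd hFQ (fun hle => ?_)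
      (Basic.even_of_involution_mem _ (show g⁻¹ * v * g ∈ M ⊓ F from ⟨hvM, hvF⟩)
        (by rw [show g⁻¹ * v * g = g⁻¹ * v * g⁻¹⁻¹ by group, Dihedral.orderOf_conj]; exact hv2))⟩
    -- otherwise an involution of it fixes every point
    refine hn (Subgroup.normalizer_eq_top_iff.1 (eq_top_iff.2 fun x _ => ?_))
    refine mem_normalizer_of_common_invol hNB hQ hodd (hFQ hv) hv2 (hle hv) (hle ?_)
    simpa using hFn.conj_mem v hv x⁻¹

end CfsgLib.LocalEven.OnePointFront
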